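import Cfsg.Agent.Lib.PrimeGraphClassical.Eigen
import Mathlib

/-!
Adjacency of two odd primes in the prime graph of `PSL(n,q)`.
-/

set_option autoImplicit false
set_option linter.unusedSectionVars false
set_option linter.style.haveILetI false

namespace CfsgLib.PrimeGraphClassical

open Polynomial
open scoped MatrixGroups

variable {F : Type*} [Field F] [Fintype F] {p : ℕ} [hp : Fact p.Prime] [CharP F p]

local notation "q" => Fintype.card F

theorem orderOf_le_of_dvd_PSL {n s : ℕ} (hn : n ≠ 0) (hs : s.Prime) (hsp : s ≠ p)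
    (hsG : s ∣ Nat.card (Matrix.ProjectiveSpecialLinearGroup (Fin n) F)) :
    orderOf ((q : ℕ) : ZMod s) ≤ n := by
  have h1 := hsG.trans (Subgroup.card_quotient_dvd_card _)
  haveI : NeZero n := ⟨hn⟩
  have h2 : s ∣ Nat.card (GL (Fin n) F) :=
    h1.trans (Subgroup.card_dvd_of_injective (Matrix.SpecialLinearGroup.toGL)
      Matrix.SpecialLinearGroup.toGL_injective)
  rw [Matrix.card_GL_field] at h2
  obtain ⟨i, -, hd⟩ := (Prime.dvd_finsetProd_iff hs.prime _).1 h2
  have hsplit : q ^ n - q ^ (i : ℕ) = q ^ (i : ℕ) * (q ^ (n - i) - 1) := by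
    rw [Nat.mul_sub, mul_one, ← pow_add, Nat.add_sub_cancel' i.2.le]
  rw [hsplit] at hd
  rcases hs.dvd_mul.1 hd with h | h
  · exact absurd (hs.dvd_of_dvd_pow h) (not_dvd_card (p := p) hs hsp)
  · rw [dvd_pow_sub_one _ _ Fintype.card_pos] at h
    have := Nat.le_of_dvd (by omega) h
    omega

theorem coprime_pred {r k : ℕ} (hr : r.Prime) (hk : k = orderOf ((q : ℕ) : ZMod r)) (h2k : 2 ≤ k) :
    r.Coprime (q - 1) := by
  rw [hr.coprime_iff_not_dvd]
  intro h
  rw [← pow_one q, dvd_pow_sub_one _ _ Fintype.card_pos, ← hk] at h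
  have := Nat.le_of_dvd one_pos h
  omega

theorem eq_one_of_pow {m : ℕ} (hm : m.Coprime (q - 1)) {c : F} (hc0 : c ≠ 0) (hc : c ^ m = 1) :
    c = 1 := by
  have h := pow_gcd_eq_one.2 ⟨hc, FiniteField.pow_card_sub_one_eq_one c hc0⟩
  rwa [hm.gcd_eq_one, pow_one] at h

theorem exists_matrix {R : Type*} [CommRing R] [Algebra F R] {n : ℕ}
    (b : Module.Basis (Fin n) F R) (u : R) {m : ℕ} (hm : m.Coprime (q - 1)) (hu : orderOf u = m)
    (hm0 : 0 < m) : ∃ g : Matrix.SpecialLinearGroup (Fin n) F, orderOf g = m := by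
  classical
  set Φ := Algebra.leftMulMatrix b
  have hdet : (Φ u).det = 1 := by
    have h1 : (Φ u).det ^ m = 1 := by
      rw [← Matrix.det_pow, ← map_pow, ← hu, pow_orderOf_eq_one, map_one, Matrix.det_one]
    refine eq_one_of_pow hm (fun h0 => ?_) h1
    rw [h0, zero_pow hm0.ne'] at h1
    exact zero_ne_one h1
  let g : Matrix.SpecialLinearGroup (Fin n) F := ⟨Φ u, hdet⟩
  refine ⟨g, ?_⟩
  rw [← hu, ← orderOf_injective (Φ : R →ₐ[F] _).toRingHom.toMonoidHom
    (Algebra.leftMulMatrix_injective b) u]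
  refine orderOf_eq_orderOf_iff.2 fun i => ⟨fun h => ?_, fun h => Subtype.ext ?_⟩
  · exact (Matrix.SpecialLinearGroup.coe_pow g i).symm.trans (congrArg Subtype.val h)
  rw [Matrix.SpecialLinearGroup.coe_pow g]
  exact h

theorem exists_root_order {L : Type*} [Field L] [Finite L] {d : ℕ} (hd : d ∣ Nat.card L - 1) :
    ∃ x : L, orderOf x = d := by
  obtain ⟨u, hu⟩ := IsCyclic.exists_generator (α := Lˣ)
  have ho : orderOf u = Nat.card L - 1 := by rw [orderOf_eq_card_of_forall_mem_zpowers hu, Nat.card_units]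
  exact ⟨((u ^ (orderOf u / d) : Lˣ) : L),
    by rw [orderOf_units, orderOf_pow_orderOf_div (orderOf_pos u).ne' (ho ▸ hd)]⟩

theorem mem_range_iff_PSL {n m : ℕ} (hn : n ≠ 0) (hm : m.Coprime (q - 1)) (hm0 : 0 < m) :
    m ∈ Set.range (orderOf : Matrix.ProjectiveSpecialLinearGroup (Fin n) F → ℕ) ↔
      ∃ g : Matrix.SpecialLinearGroup (Fin n) F, orderOf g = m := by
  classical
  haveI : NeZero n := ⟨hn⟩
  have hcen : ∀ z ∈ Subgroup.center (Matrix.SpecialLinearGroup (Fin n) F), z ^ (q - 1) = 1 := by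
    intro z hz
    obtain ⟨c, hc, hzc⟩ := Matrix.SpecialLinearGroup.mem_center_iff.1 hz
    have hc0 : c ≠ 0 := fun h => by simp [h, hn] at hc
    refine Subtype.ext ?_
    rw [Matrix.SpecialLinearGroup.coe_pow, ← hzc, ← map_pow, FiniteField.pow_card_sub_one_eq_one c hc0,
      map_one]
    rfl
  constructor
  · rintro ⟨y, hy⟩
    obtain ⟨g, rfl⟩ := QuotientGroup.mk_surjective y
    have hmem : g ^ m ∈ Subgroup.center (Matrix.SpecialLinearGroup (Fin n) F) := by
      rw [← QuotientGroup.eq_one_iff, QuotientGroup.mk_pow, ← hy, pow_orderOf_eq_one]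
    refine ⟨g ^ (q - 1), Nat.dvd_antisymm (orderOf_dvd_of_pow_eq_one ?_) ?_⟩
    · rw [← pow_mul, mul_comm, pow_mul]
      exact hcen _ hmem
    · have h3 : orderOf ((g : Matrix.ProjectiveSpecialLinearGroup (Fin n) F) ^ (q - 1)) = m := by
        rw [Nat.Coprime.orderOf_pow, hy]
        rw [hy]; exact hm
      rw [← h3, ← QuotientGroup.mk_pow]
      exact orderOf_map_dvd (QuotientGroup.mk' _) (g ^ (q - 1))
  · rintro ⟨g, hg⟩
    refine ⟨(g : Matrix.ProjectiveSpecialLinearGroup (Fin n) F),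
      Nat.dvd_antisymm (hg ▸ orderOf_map_dvd (QuotientGroup.mk' _) g) ?_⟩
    set o := orderOf (g : Matrix.ProjectiveSpecialLinearGroup (Fin n) F)
    have hmem : g ^ o ∈ Subgroup.center (Matrix.SpecialLinearGroup (Fin n) F) := by
      rw [← QuotientGroup.eq_one_iff, QuotientGroup.mk_pow, pow_orderOf_eq_one]
    have h := orderOf_dvd_of_pow_eq_one (x := g) (n := o * (q - 1)) (by rw [pow_mul]; exact hcen _ hmem)
    rw [hg] at h
    exact hm.dvd_of_dvd_mul_right h

theorem orderOf_eig_card {n : ℕ} {A : Matrix (Fin n) (Fin n) F} {x : AlgebraicClosure F}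
    (hx : x ∈ eig A) {m : ℕ} (hox : orderOf x = m) (hm0 : 0 < m) (hcop : (q).Coprime m) :
    orderOf ((q : ℕ) : ZMod m) ≤ n := by
  rw [← card_orb hox hm0 hcop]
  exact (Finset.card_le_card (orb_subset hx _)).trans ((card_eig_le A).trans (Fintype.card_fin n).le)

theorem non_adjacent_iff_SL {n r s : ℕ} (hn : n ≠ 0) (hr : r.Prime) (hs : s.Prime) (hrp : r ≠ p)
    (hsp : s ≠ p) (hrs : r ≠ s)
    (hsG : s ∣ Nat.card (Matrix.ProjectiveSpecialLinearGroup (Fin n) F)) {k l : ℕ}
    (hk : k = orderOf ((q : ℕ) : ZMod r)) (hl : l = orderOf ((q : ℕ) : ZMod s))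
    (h2k : 2 ≤ k) (hkl : k ≤ l) :
    r * s ∉ Set.range (orderOf : Matrix.ProjectiveSpecialLinearGroup (Fin n) F → ℕ) ↔
      (n < k + l ∧ ¬ k ∣ l) := by
  classical
  have hrsc : r.Coprime s := (Nat.coprime_primes hr hs).2 hrs
  have hm : (r * s).Coprime (q - 1) :=
    Nat.Coprime.mul_left (coprime_pred hr hk h2k) (coprime_pred hs hl (h2k.trans hkl))
  have hm0 : 0 < r * s := Nat.mul_pos hr.pos hs.pos
  have hln : l ≤ n := hl ▸ orderOf_le_of_dvd_PSL (p := p) hn hs hsp hsG
  rw [mem_range_iff_PSL hn hm hm0]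
  constructor
  · intro h
    constructor
    · by_contra hle
      haveI : NeZero k := ⟨by omega⟩
      haveI : NeZero l := ⟨by omega⟩
      let L₁ := FiniteField.Extension F p k
      let L₂ := FiniteField.Extension F p l
      obtain ⟨x, hx⟩ := exists_root_order (L := L₁) (d := r) (by
        rw [FiniteField.natCard_extension, Nat.card_eq_fintype_card]
        exact (dvd_pow_sub_one _ _ Fintype.card_pos).2 (hk ▸ dvd_rfl))
      obtain ⟨y, hy⟩ := exists_root_order (L := L₂) (d := s) (by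
        rw [FiniteField.natCard_extension, Nat.card_eq_fintype_card]
        exact (dvd_pow_sub_one _ _ Fintype.card_pos).2 (hl ▸ dvd_rfl))
      haveI : Module.Finite F L₁ := Module.Finite.of_finite
      haveI : Module.Finite F L₂ := Module.Finite.of_finite
      obtain ⟨g, hg⟩ := exists_matrix (Module.finBasisOfFinrankEq F (L₁ × L₂ × (Fin (n - (k + l)) → F))
        (n := n) (by
          rw [Module.finrank_prod, Module.finrank_prod, Module.finrank_fin_fun,
            FiniteField.finrank_extension, FiniteField.finrank_extension]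
          omega)) (x, y, 1) hm (by
          rw [Prod.orderOf, Prod.orderOf, orderOf_one, Nat.lcm_one_right, hx, hy, hrsc.lcm_eq_mul]) hm0
      exact h ⟨g, hg⟩
    · rintro hkl'
      haveI : NeZero l := ⟨by omega⟩
      let L := FiniteField.Extension F p l
      obtain ⟨x, hx⟩ := exists_root_order (L := L) (d := r * s) (by
        rw [FiniteField.natCard_extension, Nat.card_eq_fintype_card]
        exact hrsc.mul_dvd_of_dvd_of_dvd ((dvd_pow_sub_one _ _ Fintype.card_pos).2 (hk ▸ hkl'))
          ((dvd_pow_sub_one _ _ Fintype.card_pos).2 (hl ▸ dvd_rfl)))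
      haveI : Module.Finite F L := Module.Finite.of_finite
      obtain ⟨g, hg⟩ := exists_matrix (Module.finBasisOfFinrankEq F (L × (Fin (n - l) → F))
        (n := n) (by
          rw [Module.finrank_prod, Module.finrank_fin_fun, FiniteField.finrank_extension]
          omega)) (x, 1) hm (by rw [Prod.orderOf, orderOf_one, Nat.lcm_one_right, hx]) hm0
      exact h ⟨g, hg⟩
  · rintro ⟨hn', hdiv⟩ ⟨g, hg⟩
    set A := (g : Matrix (Fin n) (Fin n) F)
    have hA : A ^ (r * s) = 1 := by
      show (g : Matrix (Fin n) (Fin n) F) ^ (r * s) = 1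
      rw [← Matrix.SpecialLinearGroup.coe_pow, ← hg, pow_orderOf_eq_one]; rfl
    have hmF : ((r * s : ℕ) : F) ≠ 0 := by
      rw [Nat.cast_mul]; exact mul_ne_zero (cast_ne_zero (p := p) hr hrp) (cast_ne_zero (p := p) hs hsp)
    have hne : ∀ d, A ^ d = 1 → r * s ∣ d := fun d hd => by
      rw [← hg]
      exact orderOf_dvd_of_pow_eq_one (Subtype.ext (by rw [Matrix.SpecialLinearGroup.coe_pow]; exact hd))
    obtain ⟨x, hx, hxr⟩ := exists_eig_orderOf_dvd hr hA hmF (fun h => by
      have := Nat.le_of_dvd hs.pos (hne s h)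
      nlinarith [hs.pos, hr.two_le]) hrsc
    obtain ⟨y, hy, hys⟩ := exists_eig_orderOf_dvd hs (mul_comm r s ▸ hA) (mul_comm r s ▸ hmF) (fun h => by
      have := Nat.le_of_dvd hr.pos (hne r h)
      nlinarith [hr.pos, hs.two_le]) hrsc.symm
    have hord : ∀ z ∈ eig A, orderOf z ∣ r * s := fun z hz =>
      orderOf_dvd_of_pow_eq_one (pow_eq_one_of_mem hA hz)
    have hcr : (q).Coprime r := ((hr.coprime_iff_not_dvd).2 (not_dvd_card (p := p) hr hrp)).symm
    have hcs : (q).Coprime s := ((hs.coprime_iff_not_dvd).2 (not_dvd_card (p := p) hs hsp)).symm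
    by_cases hfull : ∃ z ∈ eig A, orderOf z = r * s
    · obtain ⟨z, hz, hoz⟩ := hfull
      have h1 := orderOf_eig_card hz hoz hm0 (hcr.mul_right hcs)
      rw [orderOf_natCast_mul hrsc, ← hk, ← hl] at h1
      obtain ⟨w, hw⟩ : l ∣ k.lcm l := Nat.dvd_lcm_right k l
      have hw2 : 2 ≤ w := by
        by_contra hlt
        rcases (by omega : w = 0 ∨ w = 1) with rfl | rfl
        · exact absurd (Nat.lcm_pos (show 0 < k by omega) (show 0 < l by omega))
            (by rw [hw, mul_zero]; exact lt_irrefl 0)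
        · exact hdiv (by rw [mul_one] at hw; exact hw ▸ Nat.dvd_lcm_left k l)
      have : l * 2 ≤ l * w := Nat.mul_le_mul_left l hw2
      omega
    · push Not at hfull
      have hox : orderOf x = r := by
        obtain ⟨d, hd⟩ := hxr
        have h1 : d ∣ s := Nat.dvd_of_mul_dvd_mul_left hr.pos (hd ▸ hord x hx)
        rcases (Nat.dvd_prime hs).1 h1 with rfl | rfl
        · rw [hd, mul_one]
        · exact absurd hd (hfull x hx)
      have hoy : orderOf y = s := by
        obtain ⟨d, hd⟩ := hys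
        have h1 : d ∣ r := Nat.dvd_of_mul_dvd_mul_left hs.pos (hd ▸ (mul_comm r s ▸ hord y hy))
        rcases (Nat.dvd_prime hr).1 h1 with rfl | rfl
        · rw [hd, mul_one]
        · exact absurd (hd.trans (mul_comm _ _)) (hfull y hy)
      have h1 := (Finset.card_le_card (Finset.union_subset (orb_subset hx k) (orb_subset hy l))).trans
        ((card_eig_le A).trans (Fintype.card_fin n).le)
      rw [Finset.card_union_of_disjoint (disjoint_orb hox hoy hcr hcs hrs), hk, card_orb hox hr.pos hcr,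
        hl, card_orb hoy hs.pos hcs, ← hk, ← hl] at h1
      omega

end CfsgLib.PrimeGraphClassical
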