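import Cfsg.Agent.Lib.Classical.RestrictScalars
import Cfsg.Agent.Lib.SL2.Facts

/-!
Elements of prescribed order in symplectic groups from `SL₂` of a commutative algebra.
-/

set_option autoImplicit false
set_option linter.unusedSectionVars false
set_option linter.style.haveILetI false

namespace CfsgLib.PrimeGraphClassical

open Matrix CfsgLib.Classical.RestrictScalars
open scoped MatrixGroups

variable {F : Type*} [Field F]

/-- `SL₂` of a commutative algebra with a nondegenerate functional inside a symplectic group. -/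
theorem exists_SL2_embedding {R : Type*} [CommRing R] [Algebra F R] {d : ℕ}
    (b : Module.Basis (Fin d) F R) (f : R →ₗ[F] F) (hf : ∀ a, (∀ x, f (x * a) = 0) → a = 0) :
    ∃ φ : SL(2, R) →* Matrix.symplecticGroup (Fin d) F, Function.Injective φ := by
  classical
  haveI : Module.Finite F R := Module.Finite.of_basis b
  let l : (Fin 2 → R) →ₗ[F] (Fin d ⊕ Fin d → F) :=
    { toFun := fun v => Sum.elim (fun i => b.repr (v 0) i) (fun i => f (b i * v 1))
      map_add' := fun u v => by funext s; rcases s with i | i <;> simp [mul_add]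
      map_smul' := fun c v => by funext s; rcases s with i | i <;> simp }
  have hl : Function.Injective l := by
    rw [injective_iff_map_eq_zero]
    intro v hv
    have h0 : b.repr (v 0) = 0 := Finsupp.ext fun i => congrFun hv (Sum.inl i)
    have h1 : v 1 = 0 := hf _ fun x => by
      conv_lhs => rw [← b.sum_repr x, Finset.sum_mul, map_sum]
      refine Finset.sum_eq_zero fun i _ => ?_
      rw [smul_mul_assoc, map_smul, show f (b i * v 1) = 0 from congrFun hv (Sum.inr i), smul_zero]
    funext j
    fin_cases j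
    · simpa using h0
    · exact h1
  let L : (Fin 2 → R) ≃ₗ[F] (Fin d ⊕ Fin d → F) := LinearEquiv.ofInjectiveOfFinrankEq l hl (by
    rw [Module.finrank_pi_fintype, Module.finrank_eq_card_basis b, Module.finrank_pi]
    simp
    ring)
  have hL : ∀ v, L v = Sum.elim (fun i => b.repr (v 0) i) (fun i => f (b i * v 1)) := fun v => rfl
  have key : ∀ u v, spForm (L u) (L v) = f (u 1 * v 0 - u 0 * v 1) := by
    intro u v
    have h : ∀ x y : R, ∑ i, b.repr x i * f (b i * y) = f (x * y) := fun x y => by
      conv_rhs => rw [← b.sum_repr x, Finset.sum_mul, map_sum]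
      exact Finset.sum_congr rfl fun i _ => by rw [smul_mul_assoc, map_smul, smul_eq_mul]
    simp only [spForm, hL, Sum.elim_inl, Sum.elim_inr, Finset.sum_sub_distrib]
    rw [h, Finset.sum_congr rfl fun i _ => mul_comm (f (b i * u 1)) (b.repr (v 0) i), h, map_sub,
      mul_comm (v 0)]
  let act : SL(2, R) → Matrix (Fin d ⊕ Fin d) (Fin d ⊕ Fin d) F := fun g =>
    LinearMap.toMatrix' (L.toLinearMap ∘ₗ (Matrix.toLin' (g : Matrix (Fin 2) (Fin 2) R)).restrictScalars F ∘ₗ
      L.symm.toLinearMap)
  have hact : ∀ g v, act g *ᵥ L v = L ((g : Matrix (Fin 2) (Fin 2) R) *ᵥ v) := fun g v => by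
    show LinearMap.toMatrix' _ *ᵥ L v = _
    rw [← Matrix.toLin'_apply, Matrix.toLin'_toMatrix']
    simp
  have hmem : ∀ g, act g ∈ Matrix.symplecticGroup (Fin d) F := fun g => by
    rw [symplectic_mem]
    intro u v
    obtain ⟨u, rfl⟩ := L.surjective u
    obtain ⟨v, rfl⟩ := L.surjective v
    rw [hact, hact, key, key]
    congr 1
    have hd := g.2
    rw [Matrix.det_fin_two] at hd
    simp only [Matrix.mulVec, dotProduct, Fin.sum_univ_two]
    linear_combination (u 1 * v 0 - u 0 * v 1) * hd
  have hext : ∀ M N : Matrix (Fin d ⊕ Fin d) (Fin d ⊕ Fin d) F, (∀ v, M *ᵥ L v = N *ᵥ L v) → M = N :=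
    fun M N h => Matrix.ext_of_mulVec_single fun i => by
      have := h (L.symm (Pi.single i 1))
      rwa [L.apply_symm_apply] at this
  refine ⟨MonoidHom.mk' (fun g => ⟨act g, hmem g⟩) (fun g h => Subtype.ext (hext _ _ fun v => ?_)),
    fun g h e => ?_⟩
  · rw [Submonoid.coe_mul, ← Matrix.mulVec_mulVec, hact, hact, hact, Matrix.SpecialLinearGroup.coe_mul,
      Matrix.mulVec_mulVec]
  · refine Subtype.ext (Matrix.toLin'.injective (LinearMap.ext fun v => L.injective ?_))
    rw [Matrix.toLin'_apply, Matrix.toLin'_apply, ← hact, ← hact]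
    exact congrArg (fun A => A *ᵥ L v) (congrArg Subtype.val e)

/-- A torus element of `SL₂` of a finite field. -/
theorem exists_SL2_orderOf {L : Type*} [Field L] [Finite L] {d : ℕ}
    (hd : d ∣ Nat.card L - 1 ∨ d ∣ Nat.card L + 1) : ∃ g : SL(2, L), orderOf g = d := by
  rcases hd with hd | hd
  · let e : Lˣ →* SL(2, L) :=
      { toFun := fun x => ⟨!![(x : L), 0; 0, ((x⁻¹ : Lˣ) : L)], by simp [Matrix.det_fin_two]⟩
        map_one' := Subtype.ext (by change _ = (1 : Matrix (Fin 2) (Fin 2) L); ext i j; fin_cases i <;> fin_cases j <;> simp)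
        map_mul' := fun x y => Subtype.ext (by
          change _ = (_ : Matrix (Fin 2) (Fin 2) L) * _
          ext i j; fin_cases i <;> fin_cases j <;>
            simp [Matrix.SpecialLinearGroup.coe_mul, Matrix.mul_apply, mul_comm]) }
    have he : Function.Injective e := fun x y h => Units.ext
      (congrFun (congrFun (congrArg Subtype.val h) 0) 0)
    obtain ⟨u, hu⟩ := IsCyclic.exists_generator (α := Lˣ)
    have ho : orderOf u = Nat.card L - 1 := by rw [orderOf_eq_card_of_forall_mem_zpowers hu, Nat.card_units]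
    refine ⟨e (u ^ (orderOf u / d)), ?_⟩
    rw [orderOf_injective e he, orderOf_pow_orderOf_div (orderOf_pos u).ne' (ho ▸ hd)]
  · obtain ⟨g, -, hc, hcard⟩ := CfsgLib.SL2.exists_regular_nonsplit (F := L)
    obtain ⟨c, hc'⟩ := hc.exists_ofOrder_eq_natCard
    rw [hcard] at hc'
    refine ⟨((c ^ (orderOf c / d) : _) : SL(2, L)), ?_⟩
    rw [Subgroup.orderOf_coe, orderOf_pow_orderOf_div (orderOf_pos c).ne' (hc' ▸ hd)]

theorem exists_nondeg (L : Type*) [Field L] [Algebra F L] :
    ∃ f : L →ₗ[F] F, ∀ a, (∀ x, f (x * a) = 0) → a = 0 := by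
  obtain ⟨f, hf⟩ : ∃ f : L →ₗ[F] F, f 1 ≠ 0 := by
    by_contra hcon
    simp only [not_exists, not_not] at hcon
    exact one_ne_zero ((Module.forall_dual_apply_eq_zero_iff F (1 : L)).1 hcon)
  exact ⟨f, fun a h => by
    by_contra h0
    exact hf (by simpa [h0] using h a⁻¹)⟩

/-- The product of two fields and a split torus. -/
theorem exists_two_blocks {L₁ L₂ : Type*} [Field L₁] [Algebra F L₁] [Module.Finite F L₁] [Field L₂]
    [Algebra F L₂] [Module.Finite F L₂] {n : ℕ}
    (hn : Module.finrank F L₁ + Module.finrank F L₂ ≤ n) (g₁ : SL(2, L₁)) (g₂ : SL(2, L₂)) :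
    ∃ x : Matrix.symplecticGroup (Fin n) F, orderOf x = (orderOf g₁).lcm (orderOf g₂) := by
  classical
  obtain ⟨e, rfl⟩ : ∃ e, n = Module.finrank F L₁ + Module.finrank F L₂ + e := Nat.exists_eq_add_of_le hn
  obtain ⟨f₁, hf₁⟩ := exists_nondeg (F := F) L₁
  obtain ⟨f₂, hf₂⟩ := exists_nondeg (F := F) L₂
  let f : L₁ × L₂ × (Fin e → F) →ₗ[F] F := f₁.coprod (f₂.coprod (∑ i, LinearMap.proj i))
  obtain ⟨φ, hφ⟩ := exists_SL2_embedding (Module.finBasisOfFinrankEq F (L₁ × L₂ × (Fin e → F))
    (n := Module.finrank F L₁ + Module.finrank F L₂ + e) (by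
      rw [Module.finrank_prod, Module.finrank_prod, Module.finrank_fin_fun]; ring)) f (fun a h => by
    refine Prod.ext (hf₁ _ fun x => ?_) (Prod.ext (hf₂ _ fun x => ?_) (funext fun i => ?_))
    · simpa [f] using h (x, 0, 0)
    · simpa [f] using h (0, x, 0)
    · simpa [f, Pi.single_apply] using h (0, 0, Pi.single i 1))
  let ι : SL(2, L₁) × SL(2, L₂) →* SL(2, L₁ × L₂ × (Fin e → F)) :=
    { toFun := fun g => ⟨Matrix.of fun i j => ((g.1 : Matrix (Fin 2) (Fin 2) L₁) i j,
          (g.2 : Matrix (Fin 2) (Fin 2) L₂) i j, if i = j then 1 else 0), by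
        have h1 := g.1.2
        have h2 := g.2.2
        rw [Matrix.det_fin_two] at h1 h2 ⊢
        simp [Prod.ext_iff, h1, h2]⟩
      map_one' := Subtype.ext (by
        change _ = (1 : Matrix (Fin 2) (Fin 2) _)
        refine Matrix.ext fun i j => ?_
        fin_cases i <;> fin_cases j <;> simp [Matrix.mul_apply, Fin.sum_univ_two, Prod.ext_iff, funext_iff])
      map_mul' := fun g h => Subtype.ext (by
        change _ = (_ : Matrix (Fin 2) (Fin 2) _) * _
        refine Matrix.ext fun i j => ?_
        fin_cases i <;> fin_cases j <;> simp [Matrix.mul_apply, Fin.sum_univ_two, Prod.ext_iff, funext_iff]) }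
  have hι : Function.Injective ι := fun g h e => Prod.ext
    (Subtype.ext (Matrix.ext fun i j => congrArg Prod.fst (congrFun (congrFun (congrArg Subtype.val e) i) j)))
    (Subtype.ext (Matrix.ext fun i j =>
      congrArg (fun z => z.2.1) (congrFun (congrFun (congrArg Subtype.val e) i) j)))
  exact ⟨φ (ι (g₁, g₂)), by rw [orderOf_injective φ hφ, orderOf_injective ι hι, Prod.orderOf]⟩

/-- One field and a split torus. -/
theorem exists_one_block {L : Type*} [Field L] [Algebra F L] [Module.Finite F L] {n : ℕ}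
    (hn : Module.finrank F L ≤ n) (g : SL(2, L)) :
    ∃ x : Matrix.symplecticGroup (Fin n) F, orderOf x = orderOf g := by
  classical
  obtain ⟨e, rfl⟩ : ∃ e, n = Module.finrank F L + e := Nat.exists_eq_add_of_le hn
  obtain ⟨f₁, hf₁⟩ : ∃ f : L →ₗ[F] F, f 1 ≠ 0 := by
    by_contra hcon
    simp only [not_exists, not_not] at hcon
    exact one_ne_zero ((Module.forall_dual_apply_eq_zero_iff F (1 : L)).1 hcon)
  let f : L × (Fin e → F) →ₗ[F] F := f₁.coprod (∑ i, LinearMap.proj i)
  obtain ⟨φ, hφ⟩ := exists_SL2_embedding (Module.finBasisOfFinrankEq F (L × (Fin e → F))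
    (n := Module.finrank F L + e) (by
      rw [Module.finrank_prod, Module.finrank_fin_fun])) f (fun a h => by
    refine Prod.ext ?_ (funext fun i => ?_)
    · by_contra h0
      exact hf₁ (by simpa [f, inv_mul_cancel₀ h0] using h (a.1⁻¹, 0))
    · simpa [f, Pi.single_apply] using h (0, Pi.single i 1))
  let ι : SL(2, L) →* SL(2, L × (Fin e → F)) :=
    { toFun := fun g => ⟨Matrix.of fun i j => ((g : Matrix (Fin 2) (Fin 2) L) i j,
          if i = j then 1 else 0), by
        have h1 := g.2
        rw [Matrix.det_fin_two] at h1 ⊢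
        simp [Prod.ext_iff, h1]⟩
      map_one' := Subtype.ext (by
        change _ = (1 : Matrix (Fin 2) (Fin 2) _)
        refine Matrix.ext fun i j => ?_
        fin_cases i <;> fin_cases j <;> simp [Matrix.mul_apply, Fin.sum_univ_two, Prod.ext_iff, funext_iff])
      map_mul' := fun g h => Subtype.ext (by
        change _ = (_ : Matrix (Fin 2) (Fin 2) _) * _
        refine Matrix.ext fun i j => ?_
        fin_cases i <;> fin_cases j <;> simp [Matrix.mul_apply, Fin.sum_univ_two, Prod.ext_iff, funext_iff]) }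
  have hι : Function.Injective ι := fun g h e =>
    Subtype.ext (Matrix.ext fun i j => congrArg Prod.fst (congrFun (congrFun (congrArg Subtype.val e) i) j))
  exact ⟨φ (ι g), by rw [orderOf_injective φ hφ, orderOf_injective ι hι]⟩

end CfsgLib.PrimeGraphClassical
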