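import Mathlib

/-!
Eigenvalues of a matrix of finite order over a finite field: the orbits under `x ↦ x ^ q`.
-/

set_option autoImplicit false
set_option linter.unusedSectionVars false

namespace CfsgLib.PrimeGraphClassical

open Polynomial

variable {F : Type*} [Field F] [Fintype F] {ι : Type*} [Fintype ι] [DecidableEq ι]

local notation "K" => AlgebraicClosure F

/-- The distinct eigenvalues. -/
noncomputable def eig (A : Matrix ι ι F) : Finset K :=
  open Classical in ((A.charpoly).map (algebraMap F K)).roots.toFinset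

theorem mem_eig {A : Matrix ι ι F} {x : K} : x ∈ eig A ↔ aeval x A.charpoly = 0 := by
  classical
  rw [eig, Multiset.mem_toFinset, mem_roots (map_monic_ne_zero A.charpoly_monic), IsRoot,
    eval_map, aeval_def]

theorem card_eig_le (A : Matrix ι ι F) : (eig A).card ≤ Fintype.card ι := by
  classical
  refine (Multiset.toFinset_card_le _).trans ((card_roots' _).trans ?_)
  rw [natDegree_map, Matrix.charpoly_natDegree_eq_dim]

theorem pow_mem_eig {A : Matrix ι ι F} {x : K} (h : x ∈ eig A) : x ^ Fintype.card F ∈ eig A := by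
  rw [mem_eig] at h ⊢
  rw [← expand_aeval, FiniteField.expand_card, map_pow, h, zero_pow Fintype.card_ne_zero]

theorem pow_pow_mem_eig {A : Matrix ι ι F} {x : K} (h : x ∈ eig A) (i : ℕ) :
    x ^ Fintype.card F ^ i ∈ eig A := by
  induction i with
  | zero => simpa using h
  | succ i ih => rw [pow_succ, pow_mul]; exact pow_mem_eig ih

theorem inv_mem_eig {A : Matrix ι ι F} (h0 : A.charpoly.coeff 0 ≠ 0)
    (hrev : A.charpoly.reverse = A.charpoly) {x : K} (h : x ∈ eig A) : x⁻¹ ∈ eig A := by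
  rw [mem_eig] at h ⊢
  have hx : x ≠ 0 := by
    rintro rfl
    rw [aeval_def, eval₂_at_zero, map_eq_zero] at h
    exact h0 h
  haveI := invertibleOfNonzero hx
  rw [aeval_def] at h ⊢
  rw [← invOf_eq_inv]
  nth_rw 1 [← hrev]
  exact (eval₂_reverse_eq_zero_iff (algebraMap F K) x A.charpoly).2 h

theorem pow_eq_one_of_mem {A : Matrix ι ι F} {m : ℕ} (hA : A ^ m = 1) {x : K} (h : x ∈ eig A) :
    x ^ m = 1 := by
  rw [mem_eig, aeval_def, ← eval_map, ← Matrix.charpoly_map] at h
  have h1 : x ∈ spectrum K (A.map (algebraMap F K)) := Matrix.mem_spectrum_iff_isRoot_charpoly.2 h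
  have h2 := spectrum.pow_mem_pow (A.map (algebraMap F K)) m h1
  have : Nonempty ι := by
    by_contra hne
    haveI := not_nonempty_iff.1 hne
    simp [spectrum.of_subsingleton] at h1
  rw [← RingHom.mapMatrix_apply, ← map_pow, hA, map_one, spectrum.one_eq] at h2
  exact Set.mem_singleton_iff.1 h2

/-- If all eigenvalues are killed by `s`, so is a semisimple matrix. -/
theorem pow_eq_one_of_eig {A : Matrix ι ι F} {m : ℕ} (hA : A ^ m = 1) (hm : (m : F) ≠ 0) {s : ℕ}
    (hs : s ≠ 0) (h : ∀ x ∈ eig A, x ^ s = 1) : A ^ s = 1 := by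
  classical
  set P := minpoly F A
  have hP0 : P ≠ 0 := minpoly.ne_zero (Matrix.isIntegral A)
  have hann : aeval A (X ^ m - 1 : F[X]) = 0 := by simp [hA]
  have hsep : P.Separable :=
    (X_pow_sub_one_separable_iff.2 hm).of_dvd (minpoly.dvd F A hann)
  have hX : (X ^ s - 1 : F[X]) ≠ 0 := by
    rw [← map_one C]; exact X_pow_sub_C_ne_zero (Nat.pos_of_ne_zero hs) 1
  have hdvd : P ∣ X ^ s - 1 := by
    rw [← map_dvd_map (algebraMap F K) (algebraMap F K).injective (minpoly.monic (Matrix.isIntegral A)),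
      IsAlgClosed.dvd_iff_roots_le_roots (map_ne_zero hP0) (map_ne_zero hX)]
    rw [Multiset.le_iff_subset (nodup_roots hsep.map)]
    intro x hx
    rw [mem_roots (map_ne_zero hP0), IsRoot, eval_map, ← aeval_def] at hx
    have hx' : x ∈ eig A := mem_eig.2 (aeval_eq_zero_of_dvd_aeval_eq_zero
      (minpoly.dvd F A (Matrix.aeval_self_charpoly A)) hx)
    rw [mem_roots (map_ne_zero hX), IsRoot, eval_map, eval₂_sub, eval₂_X_pow, eval₂_one, h x hx',
      sub_self]
  have h2 := aeval_eq_zero_of_dvd_aeval_eq_zero hdvd (minpoly.aeval F A)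
  simpa [sub_eq_zero] using h2

theorem exists_eig_orderOf_dvd {A : Matrix ι ι F} {r s : ℕ} (hr : r.Prime) (hA : A ^ (r * s) = 1)
    (hm : ((r * s : ℕ) : F) ≠ 0) (hs : A ^ s ≠ 1) (hrs : r.Coprime s) :
    ∃ x ∈ eig A, r ∣ orderOf x := by
  by_contra! h
  have hs0 : s ≠ 0 := by rintro rfl; exact hm (by simp)
  refine hs (pow_eq_one_of_eig hA hm hs0 fun x hx => orderOf_dvd_iff_pow_eq_one.1 ?_)
  have h1 : orderOf x ∣ r * s := orderOf_dvd_of_pow_eq_one (pow_eq_one_of_mem hA hx)
  exact (Nat.Coprime.dvd_of_dvd_mul_left ((hr.coprime_iff_not_dvd.2 (h x hx)).symm) h1)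

/-- The residue of `q` as a unit. -/
noncomputable def qUnit {m : ℕ} (hm : (Fintype.card F).Coprime m) : (ZMod m)ˣ :=
  ZMod.unitOfCoprime _ hm

theorem orderOf_qUnit {m : ℕ} (hm : (Fintype.card F).Coprime m) :
    orderOf (qUnit hm) = orderOf ((Fintype.card F : ℕ) : ZMod m) := by
  rw [← orderOf_units, qUnit, ZMod.coe_unitOfCoprime]

theorem pow_pow_eq_iff {x : K} {m : ℕ} (hx : orderOf x = m) (hm0 : 0 < m)
    (hm : (Fintype.card F).Coprime m) {i j : ℕ} :
    x ^ Fintype.card F ^ i = x ^ Fintype.card F ^ j ↔ qUnit hm ^ i = qUnit hm ^ j := by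
  rw [(IsOfFinOrder.pow_eq_pow_iff_modEq (orderOf_pos_iff.1 (hx ▸ hm0))), hx,
    ← ZMod.natCast_eq_natCast_iff, Units.ext_iff]
  simp [qUnit, ZMod.coe_unitOfCoprime]

/-- The orbit of an eigenvalue. -/
noncomputable def orb (x : K) (c : ℕ) : Finset K :=
  open Classical in (Finset.range c).image fun i => x ^ Fintype.card F ^ i

theorem orb_subset {A : Matrix ι ι F} {x : K} (h : x ∈ eig A) (c : ℕ) : orb x c ⊆ eig A := by
  classical
  intro y hy
  obtain ⟨i, -, rfl⟩ := Finset.mem_image.1 hy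
  exact pow_pow_mem_eig h i

theorem orderOf_orb {x y : K} {m c : ℕ} (hx : orderOf x = m) (hm : (Fintype.card F).Coprime m)
    (hy : y ∈ orb x c) : orderOf y = m := by
  classical
  obtain ⟨i, -, rfl⟩ := Finset.mem_image.1 hy
  rw [Nat.Coprime.orderOf_pow (hx.symm ▸ (hm.pow_left i).symm), hx]

theorem card_orb {x : K} {m : ℕ} (hx : orderOf x = m) (hm0 : 0 < m)
    (hm : (Fintype.card F).Coprime m) :
    (orb x (orderOf ((Fintype.card F : ℕ) : ZMod m))).card =
      orderOf ((Fintype.card F : ℕ) : ZMod m) := by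
  classical
  rw [orb, Finset.card_image_of_injOn, Finset.card_range]
  intro i hi j hj h
  rw [← orderOf_qUnit hm] at hi hj
  exact pow_injOn_Iio_orderOf (Finset.mem_range.1 hi) (Finset.mem_range.1 hj)
    ((pow_pow_eq_iff hx hm0 hm).1 h)

theorem disjoint_orb {x y : K} {m m' c c' : ℕ} (hx : orderOf x = m) (hy : orderOf y = m')
    (hm : (Fintype.card F).Coprime m) (hm' : (Fintype.card F).Coprime m') (hne : m ≠ m') :
    Disjoint (orb x c) (orb y c') :=
  Finset.disjoint_left.2 fun z hz hz' =>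
    hne ((orderOf_orb hx hm hz).symm.trans (orderOf_orb hy hm' hz'))

theorem disjoint_orb_inv {x : K} {m : ℕ} (hx : orderOf x = m) (hm0 : 0 < m)
    (hm : (Fintype.card F).Coprime m)
    (hno : ∀ i : ℕ, ((Fintype.card F : ℕ) : ZMod m) ^ i ≠ -1) (c : ℕ) :
    Disjoint (orb x c) (orb x⁻¹ c) := by
  classical
  refine Finset.disjoint_left.2 fun z hz hz' => ?_
  obtain ⟨i, -, rfl⟩ := Finset.mem_image.1 hz
  obtain ⟨j, -, hj⟩ := Finset.mem_image.1 hz'
  have hx0 : x ≠ 0 := fun h => by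
    rw [h, orderOf_zero] at hx
    omega
  have h1 : x ^ (Fintype.card F ^ i + Fintype.card F ^ j) = 1 := by
    rw [pow_add, ← hj, ← mul_pow, inv_mul_cancel₀ hx0, one_pow]
  have h2 : ((Fintype.card F ^ i + Fintype.card F ^ j : ℕ) : ZMod m) = 0 := by
    rw [ZMod.natCast_eq_zero_iff, ← hx]
    exact orderOf_dvd_of_pow_eq_one h1
  set u := qUnit hm with hu
  have hq : ((Fintype.card F : ℕ) : ZMod m) = u := by rw [hu, qUnit, ZMod.coe_unitOfCoprime]
  push_cast at h2
  rw [hq, ← Units.val_pow_eq_pow_val, ← Units.val_pow_eq_pow_val] at h2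
  haveI : NeZero m := ⟨hm0.ne'⟩
  obtain ⟨k, hk⟩ : ∃ k : ℕ, u ^ k = u ^ i * (u ^ j)⁻¹ := by
    refine Submonoid.mem_powers_iff _ _ |>.1 ?_
    rw [mem_powers_iff_mem_zpowers]
    exact mul_mem (Subgroup.npow_mem_zpowers _ i) (inv_mem (Subgroup.npow_mem_zpowers _ j))
  refine hno k ?_
  rw [hq, ← Units.val_pow_eq_pow_val, hk, Units.val_mul, eq_neg_of_add_eq_zero_left h2, neg_mul,
    ← Units.val_mul, mul_inv_cancel, Units.val_one]

/-- The multiplicative order modulo a product of coprime numbers. -/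
theorem orderOf_natCast_mul {r s : ℕ} (h : r.Coprime s) (q : ℕ) :
    orderOf (q : ZMod (r * s)) = (orderOf (q : ZMod r)).lcm (orderOf (q : ZMod s)) := by
  rw [← orderOf_injective (ZMod.chineseRemainder h).toRingHom.toMonoidHom
    (ZMod.chineseRemainder h).injective (q : ZMod (r * s)), Prod.orderOf]
  simp

theorem orderOf_pos_natCast {r q : ℕ} (hr : r.Prime) (hq : ¬ r ∣ q) : 0 < orderOf (q : ZMod r) := by
  haveI := Fact.mk hr
  exact orderOf_pos_iff.2 (isOfFinOrder_iff_pow_eq_one.2 ⟨r - 1, by have := hr.two_le; omega,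
    ZMod.pow_card_sub_one_eq_one (by rwa [Ne, ZMod.natCast_eq_zero_iff])⟩)

theorem not_dvd_card {p r : ℕ} [Fact p.Prime] [CharP F p] (hr : r.Prime) (hrp : r ≠ p) :
    ¬ r ∣ Fintype.card F := by
  obtain ⟨e, -, he⟩ := FiniteField.card F p
  rw [he]
  exact fun h => hrp ((Nat.prime_dvd_prime_iff_eq hr Fact.out).1 (hr.dvd_of_dvd_pow h))

theorem cast_ne_zero {p r : ℕ} [Fact p.Prime] [CharP F p] (hr : r.Prime) (hrp : r ≠ p) :
    (r : F) ≠ 0 := by
  rw [Ne, CharP.cast_eq_zero_iff F p]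
  exact fun h => hrp ((Nat.prime_dvd_prime_iff_eq Fact.out hr).mp h).symm

/-- The divisibility criterion. -/
theorem dvd_pow_sub_one {r : ℕ} (q j : ℕ) (hq : 1 ≤ q) :
    r ∣ q ^ j - 1 ↔ orderOf (q : ZMod r) ∣ j := by
  rw [orderOf_dvd_iff_pow_eq_one, ← ZMod.natCast_eq_zero_iff,
    Nat.cast_sub (Nat.one_le_pow _ _ hq), sub_eq_zero, Nat.cast_pow, Nat.cast_one]

end CfsgLib.PrimeGraphClassical
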