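import Cfsg.Agent.Lib.PrimeGraphClassical.Eigen
import Cfsg.Agent.Lib.PrimeGraphClassical.SpElements
import Cfsg.Agent.Lib.SympPrimeGraph.Main

/-!
Adjacency of two odd primes in the prime graph of `PSp(2n,q)`.
-/

set_option autoImplicit false
set_option linter.unusedSectionVars false
set_option linter.style.haveILetI false

namespace CfsgLib.PrimeGraphClassical

open Polynomial CfsgLib.Classical

variable {F : Type*} [Field F] [Fintype F] {p : ℕ} [hp : Fact p.Prime] [CharP F p]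

local notation "q" => Fintype.card F

theorem orderOf_inv_field {L : Type*} [Field L] (x : L) : orderOf x⁻¹ = orderOf x :=
  orderOf_eq_orderOf_iff.2 fun i => by rw [inv_pow, inv_eq_one]

theorem dvd_pow_add_one_of_even {r : ℕ} (hr : r.Prime) {k a : ℕ}
    (hk : k = orderOf ((q : ℕ) : ZMod r)) (hk0 : 0 < k) (ha : 2 * a = k) : r ∣ q ^ a + 1 := by
  haveI := Fact.mk hr
  have h2 : ((q : ZMod r) ^ a) * (q : ZMod r) ^ a = 1 := by
    rw [← pow_add, ← two_mul, ha, hk, pow_orderOf_eq_one]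
  rcases mul_self_eq_one_iff.1 h2 with h | h
  · have := Nat.le_of_dvd (by omega) (hk ▸ orderOf_dvd_of_pow_eq_one h : k ∣ a)
    omega
  · rw [← ZMod.natCast_eq_zero_iff]
    push_cast
    rw [h, neg_add_cancel]

/-- If `q ^ i = -1` modulo `r`, then the order of `q` is even and `i` is an odd multiple of its
half. -/
theorem pow_eq_neg_one {r : ℕ} (hr : r.Prime) (hr2 : r ≠ 2) {k i : ℕ}
    (hk : k = orderOf ((q : ℕ) : ZMod r)) (hk0 : 0 < k) (hi : ((q : ℕ) : ZMod r) ^ i = -1) :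
    ∃ a u, Odd u ∧ k = 2 * a ∧ i = a * u := by
  haveI := Fact.mk hr
  haveI : Fact (2 < r) := ⟨lt_of_le_of_ne hr.two_le (Ne.symm hr2)⟩
  have hne : (-1 : ZMod r) ≠ 1 := ZMod.neg_one_ne_one
  have h2 : k ∣ 2 * i := by
    rw [hk, orderOf_dvd_iff_pow_eq_one, mul_comm, pow_mul, hi, neg_one_sq]
  have h1 : ¬ k ∣ i := fun h => hne (by
    rw [← hi]; exact orderOf_dvd_iff_pow_eq_one.1 (hk ▸ h))
  rcases Nat.even_or_odd k with ⟨a, ha⟩ | hodd
  · obtain ⟨u, hu⟩ : a ∣ i := by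
      rw [ha, ← two_mul] at h2
      exact Nat.dvd_of_mul_dvd_mul_left two_pos h2
    refine ⟨a, u, Nat.not_even_iff_odd.1 fun ⟨w, hw⟩ => h1 ⟨w, ?_⟩, by omega, hu⟩
    rw [hu, hw, ha]; ring
  · exact absurd ((Nat.Coprime.dvd_mul_left (Nat.coprime_two_right.2 hodd)).1 h2) h1

/-- The number of conjugates of an eigenvalue of order `r`. -/
theorem two_eta_le {n : ℕ} {g : Matrix.symplecticGroup (Fin n) F} {x : AlgebraicClosure F}
    (hx : x ∈ eig (g : Matrix (Fin n ⊕ Fin n) (Fin n ⊕ Fin n) F)) {r k η : ℕ} (hr : r.Prime)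
    (hr2 : r ≠ 2) (hrp : r ≠ p) (hox : orderOf x = r) (hk : k = orderOf ((q : ℕ) : ZMod r))
    (hη : (Odd k ∧ η = k) ∨ (Even k ∧ 2 * η = k)) :
    ∃ S ⊆ eig (g : Matrix (Fin n ⊕ Fin n) (Fin n ⊕ Fin n) F),
      2 * η ≤ S.card ∧ ∀ y ∈ S, orderOf y = r := by
  classical
  have hcop : (q).Coprime r := ((hr.coprime_iff_not_dvd).2 (not_dvd_card (p := p) hr hrp)).symm
  have hk0 : 0 < k := hk ▸ orderOf_pos_natCast hr (not_dvd_card (p := p) hr hrp)
  rcases hη with ⟨hodd, rfl⟩ | ⟨-, he⟩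
  · have hχ := SympCompanion.charpoly_palindromic g
    have hxi := inv_mem_eig (by rw [hχ.1]; exact one_ne_zero) hχ.2 hx
    have hoi : orderOf x⁻¹ = r := by rw [orderOf_inv_field, hox]
    refine ⟨orb x η ∪ orb x⁻¹ η, Finset.union_subset (orb_subset hx _) (orb_subset hxi _), ?_,
      fun y hy => (Finset.mem_union.1 hy).elim (orderOf_orb hox hcop) (orderOf_orb hoi hcop)⟩
    have hdis := disjoint_orb_inv hox hr.pos hcop (fun i hi => by
      obtain ⟨a, u, -, ha, -⟩ := pow_eq_neg_one hr hr2 hk hk0 hi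
      exact Nat.not_even_iff_odd.2 hodd ⟨a, by omega⟩) η
    rw [Finset.card_union_of_disjoint hdis, hk, card_orb hox hr.pos hcop, card_orb hoi hr.pos hcop,
      two_mul]
  · refine ⟨orb x k, orb_subset hx _, ?_, fun y hy => orderOf_orb hox hcop hy⟩
    rw [hk, card_orb hox hr.pos hcop, ← hk, he]

/-- No semisimple element of order `r s`. -/
theorem no_element {n r s : ℕ} (hr : r.Prime) (hs : s.Prime) (hr2 : r ≠ 2) (hs2 : s ≠ 2)
    (hrp : r ≠ p) (hsp : s ≠ p) (hrs : r ≠ s) {k l ηk ηl : ℕ}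
    (hk : k = orderOf ((q : ℕ) : ZMod r)) (hl : l = orderOf ((q : ℕ) : ZMod s))
    (hηk : (Odd k ∧ ηk = k) ∨ (Even k ∧ 2 * ηk = k)) (hηl : (Odd l ∧ ηl = l) ∨ (Even l ∧ 2 * ηl = l))
    (hkl : ηk ≤ ηl) (hn : n < ηk + ηl) (hodd : ¬ ∃ t : ℕ, Odd t ∧ l = k * t)
    {g : Matrix.symplecticGroup (Fin n) F} (hg : orderOf g = r * s) : False := by
  classical
  set A := (g : Matrix (Fin n ⊕ Fin n) (Fin n ⊕ Fin n) F)
  have hcard : (eig A).card ≤ 2 * n := (card_eig_le A).trans (le_of_eq (by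
    rw [Fintype.card_sum, Fintype.card_fin, two_mul]))
  have hcr : (q).Coprime r := ((hr.coprime_iff_not_dvd).2 (not_dvd_card (p := p) hr hrp)).symm
  have hcs : (q).Coprime s := ((hs.coprime_iff_not_dvd).2 (not_dvd_card (p := p) hs hsp)).symm
  have hk0 : 0 < k := hk ▸ orderOf_pos_natCast hr (not_dvd_card (p := p) hr hrp)
  have hl0 : 0 < l := hl ▸ orderOf_pos_natCast hs (not_dvd_card (p := p) hs hsp)
  have hrsc : r.Coprime s := (Nat.coprime_primes hr hs).2 hrs
  have hA : A ^ (r * s) = 1 := by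
    show (g : Matrix (Fin n ⊕ Fin n) (Fin n ⊕ Fin n) F) ^ (r * s) = 1
    rw [← SubmonoidClass.coe_pow, ← hg, pow_orderOf_eq_one]; rfl
  have hm : ((r * s : ℕ) : F) ≠ 0 := by
    rw [Nat.cast_mul]; exact mul_ne_zero (cast_ne_zero (p := p) hr hrp) (cast_ne_zero (p := p) hs hsp)
  have hne : ∀ d, A ^ d = 1 → r * s ∣ d := fun d hd => by
    rw [← hg]
    exact orderOf_dvd_of_pow_eq_one (Subtype.ext (by rw [SubmonoidClass.coe_pow]; exact hd))
  obtain ⟨x, hx, hxr⟩ := exists_eig_orderOf_dvd hr hA hm (fun h => by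
    have := Nat.le_of_dvd hs.pos (hne s h)
    have := hr.two_le
    nlinarith [hs.pos]) hrsc
  obtain ⟨y, hy, hys⟩ := exists_eig_orderOf_dvd hs (mul_comm r s ▸ hA) (mul_comm r s ▸ hm) (fun h => by
    have := Nat.le_of_dvd hr.pos (hne r h)
    have := hs.two_le
    nlinarith [hr.pos]) hrsc.symm
  have hord : ∀ z ∈ eig A, orderOf z ∣ r * s := fun z hz =>
    orderOf_dvd_of_pow_eq_one (pow_eq_one_of_mem hA hz)
  by_cases hfull : ∃ z ∈ eig A, orderOf z = r * s
  · obtain ⟨z, hz, hoz⟩ := hfull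
    have hc : orderOf ((q : ℕ) : ZMod (r * s)) = k.lcm l := by rw [orderOf_natCast_mul hrsc, hk, hl]
    have hcop := hcr.mul_right hcs
    have h0 : 0 < r * s := Nat.mul_pos hr.pos hs.pos
    have hk' : k ∣ k.lcm l := Nat.dvd_lcm_left k l
    obtain ⟨w, hw⟩ : l ∣ k.lcm l := Nat.dvd_lcm_right k l
    have hw0 : 1 ≤ w := by
      rcases Nat.eq_zero_or_pos w with rfl | h
      · exact absurd (Nat.lcm_pos hk0 hl0) (by rw [hw, mul_zero]; exact lt_irrefl 0)
      · exact h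
    by_cases hneg : ∃ i : ℕ, ((q : ℕ) : ZMod (r * s)) ^ i = -1
    · obtain ⟨i, hi⟩ := hneg
      have hir : ((q : ℕ) : ZMod r) ^ i = -1 := by
        have := congrArg (ZMod.castHom (dvd_mul_right r s) (ZMod r)) hi
        simpa using this
      have his : ((q : ℕ) : ZMod s) ^ i = -1 := by
        have := congrArg (ZMod.castHom (dvd_mul_left s r) (ZMod s)) hi
        simpa using this
      obtain ⟨a, u, hu, ha, hiu⟩ := pow_eq_neg_one hr hr2 hk hk0 hir
      obtain ⟨b, v, hv, hb, hiv⟩ := pow_eq_neg_one hs hs2 hl hl0 his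
      have hab : ηk = a ∧ ηl = b := by
        constructor
        · rcases hηk with ⟨ho, -⟩ | ⟨-, he⟩
          · exact absurd ⟨a, by omega⟩ (Nat.not_even_iff_odd.2 ho)
          · omega
        · rcases hηl with ⟨ho, -⟩ | ⟨-, he⟩
          · exact absurd ⟨b, by omega⟩ (Nat.not_even_iff_odd.2 ho)
          · omega
      have hle : 2 * l ≤ k.lcm l := by
        by_contra hlt
        have hw1 : w = 1 := by
          by_contra hw1
          have : l * 2 ≤ l * w := Nat.mul_le_mul_left l (by omega)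
          omega
        rw [hw, hw1, mul_one] at hk'
        obtain ⟨t, ht⟩ := hk'
        refine hodd ⟨t, ?_, ht⟩
        have ha0 : 0 < a := by omega
        have hbat : b = a * t := by
          have : 2 * b = 2 * (a * t) := by rw [← hb, ht, ha, mul_assoc]
          omega
        have huv : u = t * v := Nat.eq_of_mul_eq_mul_left ha0 (by rw [← hiu, hiv, hbat, mul_assoc])
        exact Nat.Odd.of_mul_left (huv ▸ hu)
      have h1 := (card_orb hoz h0 hcop).symm.trans_le ((Finset.card_le_card (orb_subset hz _)).trans hcard)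
      rw [hc] at h1
      omega
    · push Not at hneg
      have hχ := SympCompanion.charpoly_palindromic g
      have hzi := inv_mem_eig (by rw [hχ.1]; exact one_ne_zero) hχ.2 hz
      have hozi : orderOf z⁻¹ = r * s := by rw [orderOf_inv_field, hoz]
      have hdis := disjoint_orb_inv hoz h0 hcop hneg (orderOf ((q : ℕ) : ZMod (r * s)))
      have h1 := (Finset.card_le_card (Finset.union_subset
        (orb_subset hz (orderOf ((q : ℕ) : ZMod (r * s))))
        (orb_subset hzi (orderOf ((q : ℕ) : ZMod (r * s)))))).trans hcard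
      rw [Finset.card_union_of_disjoint hdis, card_orb hoz h0 hcop, card_orb hozi h0 hcop, hc] at h1
      rcases hηl with ⟨hlo, rfl⟩ | ⟨-, he⟩
      · have hw2 : w ≠ 1 := fun hw1 => by
          rw [hw, hw1, mul_one] at hk'
          obtain ⟨t, ht⟩ := hk'
          exact hodd ⟨t, Nat.Odd.of_mul_right (ht ▸ hlo), ht⟩
        have : ηl * 2 ≤ ηl * w := Nat.mul_le_mul_left ηl (by omega)
        omega
      · have : l * 1 ≤ l * w := Nat.mul_le_mul_left l hw0
        omega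
  · push Not at hfull
    have hox : orderOf x = r := by
      obtain ⟨d, hd⟩ := hxr
      have h1 : d ∣ s := Nat.dvd_of_mul_dvd_mul_left hr.pos (hd ▸ hord x hx)
      rcases (Nat.dvd_prime hs).1 h1 with rfl | rfl
      · rw [hd, mul_one]
      · exact absurd hd (hfull x hx)
    have hoy : orderOf y = s := by
      obtain ⟨d, hd⟩ := hys
      have h1 : d ∣ r := Nat.dvd_of_mul_dvd_mul_left hs.pos (hd ▸ (mul_comm r s ▸ hord y hy))
      rcases (Nat.dvd_prime hr).1 h1 with rfl | rfl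
      · rw [hd, mul_one]
      · exact absurd (hd.trans (mul_comm _ _)) (hfull y hy)
    obtain ⟨S, hS, hScard, hSo⟩ := two_eta_le (p := p) hx hr hr2 hrp hox hk hηk
    obtain ⟨T, hT, hTcard, hTo⟩ := two_eta_le (p := p) hy hs hs2 hsp hoy hl hηl
    have hdis : Disjoint S T := Finset.disjoint_left.2 fun z h1 h2 => hrs ((hSo z h1).symm.trans (hTo z h2))
    have h1 := (Finset.card_le_card (Finset.union_subset hS hT)).trans hcard
    rw [Finset.card_union_of_disjoint hdis] at h1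
    omega

theorem exists_field (p : ℕ) [Fact p.Prime] [CharP F p] (d : ℕ) (hd : 0 < d) :
    ∃ (L : Type) (_ : Field L) (_ : Finite L) (_ : Algebra F L),
      Module.finrank F L = d ∧ Nat.card L = q ^ d := by
  have : NeZero d := ⟨hd.ne'⟩
  refine ⟨FiniteField.Extension F p d, inferInstance, inferInstance, inferInstance,
    FiniteField.finrank_extension F p d, ?_⟩
  rw [FiniteField.natCard_extension, Nat.card_eq_fintype_card]

theorem dvd_torus {r k η : ℕ} (hr : r.Prime) (hk : k = orderOf ((q : ℕ) : ZMod r)) (hk0 : 0 < k)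
    (hη : (Odd k ∧ η = k) ∨ (Even k ∧ 2 * η = k)) {L : Type*} (hL : Nat.card L = q ^ η) :
    r ∣ Nat.card L - 1 ∨ r ∣ Nat.card L + 1 := by
  rw [hL]
  rcases hη with ⟨-, rfl⟩ | ⟨-, he⟩
  · exact Or.inl ((dvd_pow_sub_one _ _ Fintype.card_pos).2 (hk ▸ dvd_rfl))
  · exact Or.inr (dvd_pow_add_one_of_even hr hk hk0 he)

theorem eta_le {n r k η : ℕ} (hr : r.Prime) (hrp : r ≠ p)
    (hrG : r ∣ Nat.card (Cfsg.PSp n F)) (hk : k = orderOf ((q : ℕ) : ZMod r))
    (hη : (Odd k ∧ η = k) ∨ (Even k ∧ 2 * η = k)) : η ≤ n := by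
  have h := hrG.trans (Subgroup.card_quotient_dvd_card _)
  rw [SympTrans.card_symplectic, Nat.card_eq_fintype_card] at h
  rcases hr.dvd_mul.1 h with h | h
  · exact absurd (hr.dvd_of_dvd_pow h) (not_dvd_card (p := p) hr hrp)
  obtain ⟨i, hi, hd⟩ := (Prime.dvd_finsetProd_iff hr.prime _).1 h
  rw [Finset.mem_range] at hi
  rw [dvd_pow_sub_one _ _ Fintype.card_pos, ← hk] at hd
  rcases hη with ⟨ho, rfl⟩ | ⟨-, he⟩
  · have := Nat.le_of_dvd (by omega) ((Nat.Coprime.dvd_mul_left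
      (Nat.coprime_two_right.2 ho)).1 hd)
    omega
  · have := Nat.le_of_dvd (by omega) hd
    omega

theorem mem_range_iff_odd {n m : ℕ} (hm : Odd m) :
    m ∈ Set.range (orderOf : Cfsg.PSp n F → ℕ) ↔
      ∃ g : Matrix.symplecticGroup (Fin n) F, orderOf g = m := by
  have hm2 : Nat.Coprime m 2 := Nat.coprime_two_right.2 hm
  constructor
  · rintro ⟨y, hy⟩
    obtain ⟨g, rfl⟩ := QuotientGroup.mk_surjective y
    have hmem : g ^ m ∈ Subgroup.center (Matrix.symplecticGroup (Fin n) F) := by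
      rw [← QuotientGroup.eq_one_iff, QuotientGroup.mk_pow, ← hy, pow_orderOf_eq_one]
    refine ⟨g ^ 2, Nat.dvd_antisymm (orderOf_dvd_of_pow_eq_one ?_) ?_⟩
    · rw [← pow_mul, mul_comm 2, pow_mul, pow_two]
      exact SympPrimeGraph.center_sq hmem
    · have h3 : orderOf ((g : Cfsg.PSp n F) ^ 2) = m := by
        rw [Nat.Coprime.orderOf_pow, hy]
        rw [hy]; exact hm2
      rw [← h3, ← QuotientGroup.mk_pow]
      exact orderOf_map_dvd (QuotientGroup.mk' _) (g ^ 2)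
  · rintro ⟨g, hg⟩
    refine ⟨(g : Cfsg.PSp n F), Nat.dvd_antisymm (hg ▸ orderOf_map_dvd (QuotientGroup.mk' _) g) ?_⟩
    have hmem : g ^ orderOf (g : Cfsg.PSp n F) ∈ Subgroup.center (Matrix.symplecticGroup (Fin n) F) := by
      rw [← QuotientGroup.eq_one_iff, QuotientGroup.mk_pow, pow_orderOf_eq_one]
    have h := orderOf_dvd_of_pow_eq_one (x := g) (n := orderOf (g : Cfsg.PSp n F) * 2) (by
      rw [pow_mul, pow_two]; exact SympPrimeGraph.center_sq hmem)
    rw [hg] at h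
    exact hm2.dvd_of_dvd_mul_right h

theorem non_adjacent_iff_Sp {n r s : ℕ} (hr : r.Prime) (hs : s.Prime) (hr2 : r ≠ 2) (hs2 : s ≠ 2)
    (hrp : r ≠ p) (hsp : s ≠ p) (hrs : r ≠ s) (hrG : r ∣ Nat.card (Cfsg.PSp n F))
    (hsG : s ∣ Nat.card (Cfsg.PSp n F)) {k l ηk ηl : ℕ}
    (hk : k = orderOf ((q : ℕ) : ZMod r)) (hl : l = orderOf ((q : ℕ) : ZMod s))
    (hηk : (Odd k ∧ ηk = k) ∨ (Even k ∧ 2 * ηk = k)) (hηl : (Odd l ∧ ηl = l) ∨ (Even l ∧ 2 * ηl = l))
    (hkl : ηk ≤ ηl) :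
    r * s ∉ Set.range (orderOf : Cfsg.PSp n F → ℕ) ↔ (n < ηk + ηl ∧ ¬ ∃ t : ℕ, Odd t ∧ l = k * t) := by
  have hrsc : r.Coprime s := (Nat.coprime_primes hr hs).2 hrs
  rw [mem_range_iff_odd ((hr.odd_of_ne_two hr2).mul (hs.odd_of_ne_two hs2))]
  constructor
  · intro h
    have hk0 : 0 < k := hk ▸ orderOf_pos_natCast hr (not_dvd_card (p := p) hr hrp)
    have hl0 : 0 < l := hl ▸ orderOf_pos_natCast hs (not_dvd_card (p := p) hs hsp)
    have hk1 : 0 < ηk := by rcases hηk with ⟨-, e⟩ | ⟨-, e⟩ <;> omega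
    have hl1 : 0 < ηl := by rcases hηl with ⟨-, e⟩ | ⟨-, e⟩ <;> omega
    constructor
    · by_contra hle
      obtain ⟨L₁, _, _, _, hd₁, hc₁⟩ := exists_field (F := F) p ηk hk1
      obtain ⟨L₂, _, _, _, hd₂, hc₂⟩ := exists_field (F := F) p ηl hl1
      haveI : Module.Finite F L₁ := Module.Finite.of_finite
      haveI : Module.Finite F L₂ := Module.Finite.of_finite
      obtain ⟨g₁, hg₁⟩ := exists_SL2_orderOf (L := L₁) (dvd_torus hr hk hk0 hηk hc₁)
      obtain ⟨g₂, hg₂⟩ := exists_SL2_orderOf (L := L₂) (dvd_torus hs hl hl0 hηl hc₂)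
      obtain ⟨x, hx⟩ := exists_two_blocks (F := F) (n := n) (by rw [hd₁, hd₂]; omega) g₁ g₂
      exact h ⟨x, by rw [hx, hg₁, hg₂, hrsc.lcm_eq_mul]⟩
    · rintro ⟨t, ht, rfl⟩
      obtain ⟨L, _, _, _, hd, hc⟩ := exists_field (F := F) p ηl hl1
      haveI : Module.Finite F L := Module.Finite.of_finite
      have hdiv : r * s ∣ Nat.card L - 1 ∨ r * s ∣ Nat.card L + 1 := by
        rw [hc]
        rcases hηl with ⟨ho, rfl⟩ | ⟨he, he'⟩
        · exact Or.inl (hrsc.mul_dvd_of_dvd_of_dvd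
            ((dvd_pow_sub_one _ _ Fintype.card_pos).2 (hk ▸ dvd_mul_right k t))
            ((dvd_pow_sub_one _ _ Fintype.card_pos).2 (hl ▸ dvd_rfl)))
        · rcases hηk with ⟨hko, -⟩ | ⟨-, hke⟩
          · exact absurd he (Nat.not_even_iff_odd.2 (hko.mul ht))
          refine Or.inr (hrsc.mul_dvd_of_dvd_of_dvd ?_ (dvd_pow_add_one_of_even hs hl hl0 he'))
          have hηt : ηl = ηk * t := by
            have : 2 * ηl = 2 * (ηk * t) := by rw [he', ← hke, mul_assoc]
            omega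
          refine (dvd_pow_add_one_of_even hr hk hk0 hke).trans ?_
          rw [hηt, pow_mul]
          simpa using Odd.nat_add_dvd_pow_add_pow (q ^ ηk) 1 ht
      obtain ⟨g, hg⟩ := exists_SL2_orderOf (L := L) hdiv
      obtain ⟨x, hx⟩ := exists_one_block (F := F) (n := n) (by
        rw [hd]; exact eta_le (p := p) hs hsp hsG hl hηl) g
      exact h ⟨x, by rw [hx, hg]⟩
  · rintro ⟨hn, hodd⟩ ⟨g, hg⟩
    exact no_element hr hs hr2 hs2 hrp hsp hrs hk hl hηk hηl hkl hn hodd hg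

end CfsgLib.PrimeGraphClassical
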